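import Groth.Prelude.Def_W4c6katofiltaWFil
import Mathlib

set_option autoImplicit false

universe u v

open WittVector

namespace Groth.Agent.WittFilLib

variable {p : ℕ} [hp : Fact p.Prime]

section teich

theorem ghost_inj {R : Type u} [CommRing R] [Invertible (p : R)] :
    Function.Injective (WittVector.ghostMap : WittVector p R →+* ℕ → R) :=
  fun _ _ h => (WittVector.ghostEquiv p R).injective h

theorem coeff_mul_teichmuller {R : Type u} [CommRing R] (x : WittVector p R) (r : R) (n : ℕ) :
    (x * teichmuller p r).coeff n = x.coeff n * r ^ (p ^ n) := by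
  let U := MvPolynomial (Option ℕ) ℤ
  let Q := MvPolynomial (Option ℕ) ℚ
  let X : WittVector p U := WittVector.mk p fun i => MvPolynomial.X (some i)
  let t : U := MvPolynomial.X none
  let g : U →+* R := MvPolynomial.eval₂Hom (Int.castRingHom R) (fun o => o.elim r x.coeff)
  let j : U →+* Q := MvPolynomial.map (Int.castRingHom ℚ)
  have hj : Function.Injective j := MvPolynomial.map_injective _ Int.cast_injective
  haveI : Invertible (p : Q) :=
    ((invertibleOfNonzero (Nat.cast_ne_zero.mpr hp.1.ne_zero : (p : ℚ) ≠ 0)).map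
      (MvPolynomial.C : ℚ →+* Q)).copy _ (by simp)
  have key : ∀ (y : WittVector p Q) (s : Q),
      y * teichmuller p s = WittVector.mk p fun i => y.coeff i * s ^ (p ^ i) := by
    intro y s
    apply ghost_inj
    funext k
    rw [map_mul, Pi.mul_apply, ghostMap_apply, ghostMap_apply, ghostMap_apply,
      ghostComponent_teichmuller, ghostComponent_apply, ghostComponent_apply,
      aeval_wittPolynomial, aeval_wittPolynomial, Finset.sum_mul]
    refine Finset.sum_congr rfl fun i hi => ?_
    rw [WittVector.coeff_mk, mul_pow, ← pow_mul, ← pow_add,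
      Nat.add_sub_cancel' (Nat.lt_succ_iff.mp (Finset.mem_range.mp hi)), mul_assoc]
  have hU : (X * teichmuller p t).coeff n = X.coeff n * t ^ (p ^ n) := by
    apply hj
    rw [← WittVector.map_coeff, map_mul (WittVector.map j), WittVector.map_teichmuller, key,
      WittVector.coeff_mk, WittVector.map_coeff, map_mul, map_pow]
  have hX : WittVector.map g X = x := by
    ext i
    rw [WittVector.map_coeff]
    simp only [g, X, WittVector.coeff_mk]
    exact MvPolynomial.eval₂_X _ _ _
  have ht : g t = r := MvPolynomial.eval₂_X _ _ _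
  have := congrArg g hU
  rwa [← WittVector.map_coeff, map_mul (WittVector.map g), WittVector.map_teichmuller, hX, ht,
    map_mul, map_pow, ← WittVector.map_coeff, hX, ht] at this

theorem coeff_trunc_teich_mul {R : Type u} [CommRing R] {m : ℕ} (r : R)
    (a : TruncatedWittVector p m R) (j : Fin m) :
    TruncatedWittVector.coeff j (WittVector.truncate m (teichmuller p r) * a) =
      r ^ (p ^ (j : ℕ)) * TruncatedWittVector.coeff j a := by
  obtain ⟨x, rfl⟩ := WittVector.truncate_surjective p m R a
  rw [← map_mul, coeff_truncate, coeff_truncate, mul_comm, coeff_mul_teichmuller, mul_comm]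

theorem coeff_vShift {S B : Type*} [CommRing S] [CommRing B] [Algebra S B] (m s : ℕ) (v : B)
    (c : WittVector p S) (j : Fin m) :
    TruncatedWittVector.coeff j (WittFil.vShiftTeich p m s v c) =
      if (j : ℕ) < s then 0
      else algebraMap S B (c.coeff ((j : ℕ) - s)) * v ^ (p ^ ((j : ℕ) - s)) := by
  rw [WittFil.vShiftTeich, coeff_truncate]
  split_ifs with h
  · exact iterate_verschiebung_coeff_eq_zero _ h
  · conv_lhs => rw [show (j : ℕ) = ((j : ℕ) - s) + s by omega]
    rw [iterate_verschiebung_coeff, coeff_mul_teichmuller, WittVector.map_coeff]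

end teich

section rootClosed

variable {A B : Type*} [CommRing A] [CommRing B] [Algebra A B]

/-- `A` is closed in `B` under extraction of roots. -/
def RootClosed (A B : Type*) [CommRing A] [CommRing B] [Algebra A B] : Prop :=
  ∀ (z : B) (N : ℕ), 0 < N → z ^ N ∈ (algebraMap A B).range → z ∈ (algebraMap A B).range

theorem RootClosed.mem_of_pow (h : RootClosed A B) {z : B} {k : ℕ}
    (hz : z ^ (p ^ k) ∈ (algebraMap A B).range) : z ∈ (algebraMap A B).range :=
  h z _ (pow_pos hp.1.pos k) hz

theorem mem_map_range {x : WittVector p B} (h : ∀ k, x.coeff k ∈ (algebraMap A B).range) :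
    x ∈ (WittVector.map (algebraMap A B) : WittVector p A →+* WittVector p B).range := by
  choose f hf using h
  exact ⟨WittVector.mk p f, by ext k; rw [WittVector.map_coeff, WittVector.coeff_mk]; exact hf k⟩

variable [CharP B p]

/-- the twist `y ↦ F^(m-1) y * [c]` -/
noncomputable def twist (m : ℕ) (c : B) (y : WittVector p B) : WittVector p B :=
  WittVector.map (iterateFrobenius B p (m - 1)) y * teichmuller p c

theorem twist_sub (m : ℕ) (c : B) (x y : WittVector p B) :
    twist m c (x - y) = twist m c x - twist m c y := by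
  simp only [twist, map_sub, sub_mul]

theorem twist_mul (m : ℕ) (c c' : B) (x y : WittVector p B) :
    twist m (c * c') (x * y) = twist m c x * twist m c' y := by
  simp only [twist, map_mul]; ring

theorem coeff_twist (m : ℕ) (c : B) (y : WittVector p B) (j : ℕ) :
    (twist m c y).coeff j = y.coeff j ^ (p ^ (m - 1)) * c ^ (p ^ j) := by
  rw [twist, coeff_mul_teichmuller, WittVector.map_coeff, iterateFrobenius_def]

theorem coeff_twist_of_lt (m : ℕ) (c : B) (y : WittVector p B) {j : ℕ} (hj : j < m) :
    (twist m c y).coeff j = (y.coeff j ^ (p ^ (m - 1 - j)) * c) ^ (p ^ j) := by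
  rw [coeff_twist, mul_pow, ← pow_mul, ← pow_add, Nat.sub_add_cancel (by omega)]

/-- a representative of `fil` with twisted coordinates in `A` -/
theorem mem_fil_iff_twist (h : RootClosed A B) (m : ℕ) (c : B) (y : WittVector p B) :
    WittVector.truncate m y ∈ WittFil.fil p m (A := A) c ↔
      ∀ j, j < m → (twist m c y).coeff j ∈ (algebraMap A B).range := by
  constructor
  · intro hy j hj
    have := hy ⟨j, hj⟩
    rw [coeff_truncate] at this
    rw [coeff_twist_of_lt m c y hj]
    exact pow_mem this _
  · intro hy j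
    rw [coeff_truncate]
    exact h.mem_of_pow (k := (j : ℕ)) (by rw [← coeff_twist_of_lt m c y j.2]; exact hy j j.2)

theorem exists_lift_range (h : RootClosed A B) (m : ℕ) (c : B) (a : TruncatedWittVector p m B)
    (ha : a ∈ WittFil.fil p m (A := A) c) :
    ∃ y, WittVector.truncate m y = a ∧
      twist m c y ∈ (WittVector.map (algebraMap A B) : WittVector p A →+* WittVector p B).range := by
  refine ⟨a.out, ?_, ?_⟩
  · ext i; rw [coeff_truncate, TruncatedWittVector.coeff_out]
  · apply mem_map_range
    intro k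
    by_cases hk : k < m
    · refine (mem_fil_iff_twist h m c a.out).mp ?_ k hk
      intro j
      rw [coeff_truncate, TruncatedWittVector.coeff_out]
      exact ha j
    · have h0 : (a.out).coeff k = 0 := by
        simp [TruncatedWittVector.out, hk]
      rw [coeff_twist, h0, zero_pow (pow_pos hp.1.pos _).ne', zero_mul]
      exact zero_mem _

theorem mem_fil_of_twist (h : RootClosed A B) (m : ℕ) (c : B) (y : WittVector p B)
    (hy : twist m c y ∈
      (WittVector.map (algebraMap A B) : WittVector p A →+* WittVector p B).range) :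
    WittVector.truncate m y ∈ WittFil.fil p m (A := A) c := by
  obtain ⟨z, hz⟩ := hy
  rw [mem_fil_iff_twist h]
  intro j _
  rw [← hz, WittVector.map_coeff]
  exact ⟨_, rfl⟩

theorem sub_mem (h : RootClosed A B) (m : ℕ) (c : B) {a b : TruncatedWittVector p m B}
    (ha : a ∈ WittFil.fil p m (A := A) c) (hb : b ∈ WittFil.fil p m (A := A) c) :
    a - b ∈ WittFil.fil p m (A := A) c := by
  obtain ⟨x, rfl, hx⟩ := exists_lift_range h m c a ha
  obtain ⟨y, rfl, hy⟩ := exists_lift_range h m c b hb
  rw [← map_sub]
  refine mem_fil_of_twist h m c _ ?_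
  rw [twist_sub]
  exact Subring.sub_mem _ hx hy

theorem mul_mem (h : RootClosed A B) (m : ℕ) (c c' : B) {a b : TruncatedWittVector p m B}
    (ha : a ∈ WittFil.fil p m (A := A) c) (hb : b ∈ WittFil.fil p m (A := A) c') :
    a * b ∈ WittFil.fil p m (A := A) (c * c') := by
  obtain ⟨x, rfl, hx⟩ := exists_lift_range h m c a ha
  obtain ⟨y, rfl, hy⟩ := exists_lift_range h m c' b hb
  rw [← map_mul]
  refine mem_fil_of_twist h m _ _ ?_
  rw [twist_mul]
  exact Subring.mul_mem _ hx hy

end rootClosed

section ufd

variable {A B : Type*} [CommRing A] [IsDomain A] [CommRing B] [Algebra A B]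

theorem rootClosed_of_isLocalization [IsIntegrallyClosed A] (M : Submonoid A)
    (hM : M ≤ nonZeroDivisors A) [IsLocalization M B] : RootClosed A B := by
  let K := FractionRing A
  let i : B →+* K := IsLocalization.lift (M := M) (g := algebraMap A K)
    (fun y => IsLocalization.map_units K (⟨y.1, hM y.2⟩ : nonZeroDivisors A))
  have hi : ∀ a, i (algebraMap A B a) = algebraMap A K a := fun a => IsLocalization.lift_eq _ a
  have hinj : Function.Injective i := by
    rw [IsLocalization.lift_injective_iff]
    intro a b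
    rw [(IsLocalization.injective B hM).eq_iff, (IsFractionRing.injective A K).eq_iff]
  intro z N hN hz
  obtain ⟨a, ha⟩ := hz
  have hint : IsIntegral A (i z) := by
    refine IsIntegral.of_pow hN ?_
    rw [← map_pow, ← ha, hi]
    exact isIntegral_algebraMap
  obtain ⟨b, hb⟩ := IsIntegrallyClosed.algebraMap_eq_of_integral hint
  exact ⟨b, hinj (by rw [hi, hb])⟩

variable [UniqueFactorizationMonoid A] {r : ℕ} {x : Fin r → A}

theorem prod_le_nonZeroDivisors (hx : ∀ i, Prime (x i)) :
    Submonoid.powers (∏ i, x i) ≤ nonZeroDivisors A := by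
  refine Submonoid.powers_le.mpr (mem_nonZeroDivisors_of_ne_zero ?_)
  exact Finset.prod_ne_zero_iff.mpr fun i _ => (hx i).ne_zero

theorem rootClosed_away (hx : ∀ i, Prime (x i)) [IsLocalization.Away (∏ i, x i) B] :
    RootClosed A B :=
  rootClosed_of_isLocalization _ (prod_le_nonZeroDivisors hx)

theorem charP_away [CharP A p] (hx : ∀ i, Prime (x i)) [IsLocalization.Away (∏ i, x i) B] :
    CharP B p :=
  charP_of_injective_algebraMap (IsLocalization.injective B (prod_le_nonZeroDivisors hx)) p

theorem prod_dvd_of_forall (hx : ∀ i, Prime (x i))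
    (hxa : ∀ i j, Associated (x i) (x j) → i = j) {a : A} (h : ∀ i, x i ∣ a) :
    (∏ i, x i) ∣ a := by
  classical
  refine Finset.prod_dvd_of_isRelPrime ?_ (fun i _ => h i)
  intro i _ j _ hij
  show IsRelPrime (x i) (x j)
  rw [(hx i).irreducible.isRelPrime_iff_not_dvd]
  intro hd
  exact hij (hxa i j ((hx i).associated_of_dvd (hx j) hd))

omit [UniqueFactorizationMonoid A] in
theorem zmon_natCast (u : Fin r → Bˣ) (hu : ∀ i, (u i : B) = algebraMap A B (x i))
    (e : Fin r → ℕ) :
    WittFil.zmon u (fun i => (e i : ℤ)) = algebraMap A B (∏ i, x i ^ e i) := by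
  simp [WittFil.zmon, hu]

omit [UniqueFactorizationMonoid A] in
theorem zmon_add (u : Fin r → Bˣ) (n n' : Fin r → ℤ) :
    WittFil.zmon u (n + n') = WittFil.zmon u n * WittFil.zmon u n' := by
  rw [WittFil.zmon, WittFil.zmon, WittFil.zmon, ← Units.val_mul, ← Finset.prod_mul_distrib]
  simp only [Pi.add_apply, zpow_add]

omit [UniqueFactorizationMonoid A] in
theorem zmon_nsmul (u : Fin r → Bˣ) (n : Fin r → ℤ) (k : ℕ) :
    WittFil.zmon u (fun i => (k : ℤ) * n i) = WittFil.zmon u n ^ k := by
  rw [WittFil.zmon, WittFil.zmon, ← Units.val_pow_eq_pow_val, ← Finset.prod_pow]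
  simp only [mul_comm (k : ℤ), zpow_mul, zpow_natCast]

/-- key descent: if `z ^ N * x ^ e ∈ A` with all `e i < N` then `z ∈ A` -/
theorem mem_of_pow_mul_zmon (hx : ∀ i, Prime (x i)) (hxa : ∀ i j, Associated (x i) (x j) → i = j)
    [IsLocalization.Away (∏ i, x i) B] (u : Fin r → Bˣ)
    (hu : ∀ i, (u i : B) = algebraMap A B (x i)) {N : ℕ} (hN : 0 < N) (e : Fin r → ℤ)
    (he0 : ∀ i, 0 ≤ e i) (he : ∀ i, e i < N) {z : B}
    (hz : z ^ N * WittFil.zmon u e ∈ (algebraMap A B).range) : z ∈ (algebraMap A B).range := by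
  obtain ⟨b, hb⟩ := hz
  lift e to Fin r → ℕ using he0
  have he' : ∀ i, e i < N := fun i => Int.ofNat_lt.mp (he i)
  rw [zmon_natCast u hu] at hb
  set P := ∏ i, x i with hP
  have hprod : (∏ i, x i ^ e i) * ∏ i, x i ^ (N - e i) = P ^ N := by
    rw [← Finset.prod_mul_distrib, hP, ← Finset.prod_pow]
    exact Finset.prod_congr rfl fun i _ => by rw [← pow_add, Nat.add_sub_cancel' (he' i).le]
  have h1 : (z * algebraMap A B P) ^ N = algebraMap A B (b * ∏ i, x i ^ (N - e i)) := by
    rw [map_mul, hb, mul_assoc, ← map_mul, hprod, map_pow, ← mul_pow]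
  obtain ⟨w, hw⟩ := rootClosed_away hx (z * algebraMap A B P) N hN ⟨_, h1.symm⟩
  have h2 : w ^ N = b * ∏ i, x i ^ (N - e i) := by
    apply IsLocalization.injective B (prod_le_nonZeroDivisors hx)
    rw [map_pow, hw, h1]
  have h3 : P ∣ w := prod_dvd_of_forall hx hxa fun i => (hx i).dvd_of_dvd_pow (n := N) (by
    rw [h2]
    refine Dvd.dvd.mul_left ((dvd_pow_self _ ?_).trans
      (Finset.dvd_prod_of_mem (fun i => x i ^ (N - e i)) (Finset.mem_univ i))) _
    have := he' i
    omega)
  obtain ⟨w', rfl⟩ := h3
  refine ⟨w', ?_⟩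
  have hu' : IsUnit (algebraMap A B P) :=
    IsLocalization.map_units B (⟨P, Submonoid.mem_powers P⟩ : Submonoid.powers P)
  apply hu'.mul_left_injective
  show algebraMap A B w' * algebraMap A B P = z * algebraMap A B P
  rw [← hw, map_mul, mul_comm]

/-- same, with arbitrary exponents -/
theorem mem_of_pow_mul_zmon' (hx : ∀ i, Prime (x i)) (hxa : ∀ i j, Associated (x i) (x j) → i = j)
    [IsLocalization.Away (∏ i, x i) B] (u : Fin r → Bˣ)
    (hu : ∀ i, (u i : B) = algebraMap A B (x i)) {N : ℕ} (hN : 0 < N) (n : Fin r → ℤ) {z : B}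
    (hz : z ^ N * WittFil.zmon u n ∈ (algebraMap A B).range) :
    z * WittFil.zmon u (fun i => n i / (N : ℤ)) ∈ (algebraMap A B).range := by
  refine mem_of_pow_mul_zmon hx hxa u hu hN (fun i => n i % (N : ℤ))
    (fun i => Int.emod_nonneg _ (by omega)) (fun i => Int.emod_lt_of_pos _ (by omega)) ?_
  rw [mul_pow, ← zmon_nsmul, mul_assoc, ← zmon_add]
  convert hz using 3
  funext i
  simp only [Pi.add_apply]
  exact Int.mul_ediv_add_emod _ _

end ufd

end Groth.Agent.WittFilLib
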