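import Groth.Agent.WittFilLib.Basic

set_option autoImplicit false

universe u

namespace Groth.Agent.WittFilLib

section ps

variable {S B : Type*} [CommRing S] [IsDomain S] [CommRing B] [Algebra (PowerSeries S) B]
  [IsLocalization.Away (PowerSeries.X : PowerSeries S) B]

local notation "al" => algebraMap (PowerSeries S) B

theorem powersX_le : Submonoid.powers (PowerSeries.X : PowerSeries S) ≤
    nonZeroDivisors (PowerSeries S) :=
  Submonoid.powers_le.mpr (mem_nonZeroDivisors_of_ne_zero PowerSeries.X_ne_zero)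

theorem al_injective : Function.Injective al :=
  IsLocalization.injective B powersX_le

variable (u : Bˣ) (hu : (u : B) = algebraMap (PowerSeries S) B PowerSeries.X)

include hu in
theorem exists_decomp (z : B) (hz : z ≠ 0) : ∃ (v : ℤ) (a : PowerSeries S),
    PowerSeries.constantCoeff a ≠ 0 ∧ z = ((u ^ v : Bˣ) : B) * al a := by
  obtain ⟨⟨a, t, k, rfl⟩, h⟩ := IsLocalization.surj
    (Submonoid.powers (PowerSeries.X : PowerSeries S)) z
  simp only [map_pow, ← hu] at h
  have ha : a ≠ 0 := by
    rintro rfl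
    rw [map_zero] at h
    exact hz ((IsUnit.mul_left_eq_zero (u.isUnit.pow k)).mp h)
  refine ⟨(a.order.toNat : ℤ) - k, a.divXPowOrder,
    fun h => ha (PowerSeries.constantCoeff_divXPowOrder_eq_zero_iff.mp h), ?_⟩
  apply (u.isUnit.pow k).mul_left_injective
  show z * (u : B) ^ k = _ * (u : B) ^ k
  rw [h]
  conv_lhs => rw [← PowerSeries.X_pow_order_mul_divXPowOrder (f := a), map_mul, map_pow, ← hu]
  rw [mul_comm _ ((u : B) ^ k), ← mul_assoc]
  congr 1
  rw [← Units.val_pow_eq_pow_val, ← Units.val_pow_eq_pow_val, ← Units.val_mul, ← zpow_natCast,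
    ← zpow_natCast u k, ← zpow_add, add_sub_cancel]

include hu in
theorem zpow_mul_mem_iff (v : ℤ) (a : PowerSeries S) (ha : PowerSeries.constantCoeff a ≠ 0) :
    ((u ^ v : Bˣ) : B) * al a ∈ (al).range ↔ 0 ≤ v := by
  constructor
  · rintro ⟨b, hb⟩
    by_contra hv
    obtain ⟨k, rfl⟩ : ∃ k : ℕ, v = -((k : ℤ) + 1) := ⟨(-v - 1).toNat, by omega⟩
    have : al a = al (PowerSeries.X ^ (k + 1) * b) := by
      rw [map_mul, map_pow, hb, ← hu, ← mul_assoc, ← Units.val_pow_eq_pow_val, ← Units.val_mul,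
        ← zpow_natCast, ← zpow_add]
      simp
    apply ha
    rw [al_injective this]
    simp
  · intro hv
    lift v to ℕ using hv
    exact ⟨PowerSeries.X ^ v * a, by rw [map_mul, map_pow, ← hu, zpow_natCast,
      Units.val_pow_eq_pow_val]⟩

include hu in
theorem rootClosed_powerSeries : RootClosed (PowerSeries S) B := by
  intro z N hN hz
  by_cases h0 : z = 0
  · exact h0 ▸ zero_mem _
  obtain ⟨v, a, ha, rfl⟩ := exists_decomp u hu z h0
  rw [mul_pow, ← map_pow, ← Units.val_pow_eq_pow_val, ← zpow_natCast, ← zpow_mul,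
    zpow_mul_mem_iff u hu _ _ (by rw [map_pow]; exact pow_ne_zero _ ha)] at hz
  rw [zpow_mul_mem_iff u hu _ _ ha]
  exact nonneg_of_mul_nonneg_left hz (by exact_mod_cast hN)

include hu in
theorem pow_mul_mem_pred {N : ℕ} (hN : 0 < N) (k : ℤ) (hk : ¬ (N : ℤ) ∣ k) (z : B)
    (hz : z ^ N * ((u ^ k : Bˣ) : B) ∈ (al).range) :
    z ^ N * ((u ^ (k - 1) : Bˣ) : B) ∈ (al).range := by
  by_cases h0 : z = 0
  · rw [h0, zero_pow hN.ne', zero_mul]
    exact zero_mem _
  obtain ⟨v, a, ha, rfl⟩ := exists_decomp u hu z h0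
  have key : ∀ k : ℤ, (((u ^ v : Bˣ) : B) * al a) ^ N * ((u ^ k : Bˣ) : B) =
      ((u ^ (v * (N : ℤ) + k) : Bˣ) : B) * al (a ^ N) := by
    intro k
    rw [mul_pow, ← map_pow, mul_right_comm, ← Units.val_pow_eq_pow_val, ← zpow_natCast,
      ← zpow_mul, ← Units.val_mul, ← zpow_add]
  have haN : PowerSeries.constantCoeff (a ^ N) ≠ 0 := by
    rw [map_pow]; exact pow_ne_zero _ ha
  rw [key, zpow_mul_mem_iff u hu _ _ haN] at hz ⊢
  have : v * (N : ℤ) + k ≠ 0 := fun h => hk ⟨-v, by linarith⟩
  omega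

end ps

theorem gr_fil_powerSeries {p : ℕ} [hp : Fact p.Prime] {S B : Type*} [CommRing S]
    [IsDomain S] [CharP S p] [CommRing B] [Algebra (PowerSeries S) B] [Algebra S B]
    [IsScalarTower S (PowerSeries S) B] [IsLocalization.Away (PowerSeries.X : PowerSeries S) B]
    (u : Bˣ) (hu : (u : B) = algebraMap (PowerSeries S) B PowerSeries.X) (m s : ℕ) (hs : s < m)
    (i : ℤ) (hsi : s = 0 ∨ ¬ ((p : ℤ) ∣ i)) :
    (∀ c : WittVector p S,
        WittFil.vShiftTeich p m s ((u ^ i : Bˣ) : B) c ∈
          WittFil.fil p m (A := PowerSeries S) ((u ^ (-((p : ℤ) ^ (m - 1 - s) * i)) : Bˣ) : B)) ∧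
      (∀ c : WittVector p S,
        WittFil.vShiftTeich p m s ((u ^ i : Bˣ) : B) c ∈
            WittFil.fil p m (A := PowerSeries S) ((u ^ (-((p : ℤ) ^ (m - 1 - s) * i) - 1) : Bˣ) : B) ↔
          WittVector.truncate (m - s) c = 0) ∧
      (∀ y ∈ WittFil.fil p m (A := PowerSeries S) ((u ^ (-((p : ℤ) ^ (m - 1 - s) * i)) : Bˣ) : B),
        ∃ c : WittVector p S,
          y - WittFil.vShiftTeich p m s ((u ^ i : Bˣ) : B) c ∈
            WittFil.fil p m (A := PowerSeries S)
              ((u ^ (-((p : ℤ) ^ (m - 1 - s) * i) - 1) : Bˣ) : B)) := by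
  haveI : CharP (PowerSeries S) p :=
    charP_of_injective_algebraMap (R := S) (A := PowerSeries S) PowerSeries.C_injective p
  haveI : CharP B p := charP_of_injective_algebraMap (al_injective (S := S) (B := B)) p
  have hR := rootClosed_powerSeries u hu
  set n := (p : ℤ) ^ (m - 1 - s) * i with hn
  have hppos : ∀ k : ℕ, 0 < p ^ k := fun k => pow_pos hp.1.pos k
  -- exponent bookkeeping
  have hexp : ∀ j : Fin m, s ≤ (j : ℕ) →
      (((u ^ i : Bˣ) : B) ^ p ^ ((j : ℕ) - s)) ^ p ^ (m - 1 - (j : ℕ)) *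
        ((u ^ (-n) : Bˣ) : B) = 1 := by
    intro j hj
    rw [← pow_mul, ← pow_add, show (j : ℕ) - s + (m - 1 - (j : ℕ)) = m - 1 - s by omega,
      ← Units.val_pow_eq_pow_val, ← zpow_natCast, ← zpow_mul, ← Units.val_mul, ← zpow_add,
      Nat.cast_pow, hn, mul_comm i, add_neg_cancel, zpow_zero, Units.val_one]
  have hPhi : ∀ (c : WittVector p S) (j : Fin m),
      TruncatedWittVector.coeff j (WittFil.vShiftTeich p m s ((u ^ i : Bˣ) : B) c) ^
          p ^ (m - 1 - (j : ℕ)) * ((u ^ (-n) : Bˣ) : B) =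
        algebraMap (PowerSeries S) B (PowerSeries.C
          ((if (j : ℕ) < s then 0 else c.coeff ((j : ℕ) - s)) ^ p ^ (m - 1 - (j : ℕ)))) := by
    intro c j
    rw [coeff_vShift]
    split_ifs with h
    · rw [zero_pow (hppos _).ne', zero_pow (hppos _).ne', zero_mul, map_zero, map_zero]
    · rw [mul_pow, mul_assoc, hexp j (by omega), mul_one, ← map_pow,
        IsScalarTower.algebraMap_apply S (PowerSeries S) B]
      rfl
  have hsucc : ∀ (z : B), z * ((u ^ (-n - 1) : Bˣ) : B) * (u : B) = z * ((u ^ (-n) : Bˣ) : B) := by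
    intro z
    rw [mul_assoc, ← Units.val_mul, ← zpow_add_one, sub_add_cancel]
  refine ⟨fun c j => ⟨_, (hPhi c j).symm⟩, fun c => ?_, fun y hy => ?_⟩
  · have htr : WittVector.truncate (m - s) c = 0 ↔ ∀ d, d < m - s → c.coeff d = 0 := by
      rw [← RingHom.mem_ker, WittVector.mem_ker_truncate]
    rw [htr]
    constructor
    · intro h d hd
      obtain ⟨b, hb⟩ := h ⟨d + s, by omega⟩
      have h2 := hPhi c ⟨d + s, by omega⟩
      rw [← hsucc, ← hb, hu, ← map_mul, if_neg (by simp), Nat.add_sub_cancel] at h2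
      have := congrArg PowerSeries.constantCoeff (al_injective h2)
      rw [map_mul, PowerSeries.constantCoeff_X, mul_zero, PowerSeries.constantCoeff_C] at this
      exact eq_zero_of_pow_eq_zero this.symm
    · intro h j
      rw [coeff_vShift]
      split_ifs with hj
      · rw [zero_pow (hppos _).ne', zero_mul]; exact zero_mem _
      · rw [h _ (by omega), map_zero, zero_mul, zero_pow (hppos _).ne', zero_mul]
        exact zero_mem _
  · -- the leading coefficients
    have hz : ∀ j : Fin m, s ≤ (j : ℕ) → ∃ a : PowerSeries S,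
        algebraMap (PowerSeries S) B a = TruncatedWittVector.coeff j y *
          (((u ^ (-i) : Bˣ) : B) ^ p ^ ((j : ℕ) - s)) := by
      intro j hj
      refine hR.mem_of_pow (p := p) (k := m - 1 - (j : ℕ)) ?_
      have hk : (((u ^ (-i) : Bˣ) : B) ^ p ^ ((j : ℕ) - s)) ^ p ^ (m - 1 - (j : ℕ)) =
          ((u ^ (-n) : Bˣ) : B) := by
        rw [← pow_mul, ← pow_add, show (j : ℕ) - s + (m - 1 - (j : ℕ)) = m - 1 - s by omega,
          ← Units.val_pow_eq_pow_val, ← zpow_natCast, ← zpow_mul, Nat.cast_pow, hn, neg_mul,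
          mul_comm i]
      rw [mul_pow, hk]
      exact hy j
    classical
    let c : WittVector p S := WittVector.mk p fun d =>
      if h : d + s < m then PowerSeries.constantCoeff (hz ⟨d + s, h⟩ (Nat.le_add_left _ _)).choose
      else 0
    refine ⟨c, ?_⟩
    set P := WittFil.vShiftTeich p m s ((u ^ i : Bˣ) : B) c with hP
    have hPmem : P ∈ WittFil.fil p m (A := PowerSeries S) ((u ^ (-n) : Bˣ) : B) :=
      fun j => ⟨_, (hPhi c j).symm⟩
    obtain ⟨Y, hY, ZY, hZY⟩ := exists_lift_range hR m _ y hy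
    obtain ⟨X, hX, ZX, hZX⟩ := exists_lift_range hR m _ P hPmem
    -- constant terms agree
    have key : ∀ k, k < m → (PowerSeries.constantCoeff (R := S)) (ZY.coeff k) =
        PowerSeries.constantCoeff (ZX.coeff k) := by
      intro k hk
      have hy' : TruncatedWittVector.coeff ⟨k, hk⟩ y = Y.coeff k := by
        rw [← hY, WittVector.coeff_truncate]
      have hx' : TruncatedWittVector.coeff ⟨k, hk⟩ P = X.coeff k := by
        rw [← hX, WittVector.coeff_truncate]
      have h1 : algebraMap (PowerSeries S) B (ZY.coeff k) =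
          (TruncatedWittVector.coeff ⟨k, hk⟩ y ^ p ^ (m - 1 - k) *
            ((u ^ (-n) : Bˣ) : B)) ^ p ^ k := by
        rw [hy', ← coeff_twist_of_lt m _ Y hk, ← hZY, WittVector.map_coeff]
      have h2 : algebraMap (PowerSeries S) B (ZX.coeff k) =
          (TruncatedWittVector.coeff ⟨k, hk⟩ P ^ p ^ (m - 1 - k) *
            ((u ^ (-n) : Bˣ) : B)) ^ p ^ k := by
        rw [hx', ← coeff_twist_of_lt m _ X hk, ← hZX, WittVector.map_coeff]
      rw [hP, hPhi c ⟨k, hk⟩, ← map_pow] at h2
      rw [al_injective h2, map_pow, PowerSeries.constantCoeff_C]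
      by_cases hks : k < s
      · rw [if_pos hks, zero_pow (hppos _).ne', zero_pow (hppos _).ne']
        have hne : ¬ ((p ^ (m - 1 - k) : ℕ) : ℤ) ∣ -n := by
          rcases hsi with hs0 | hi
          · omega
          rw [dvd_neg, hn, Nat.cast_pow,
            show m - 1 - k = (m - 1 - s) + (s - k) by omega, pow_add]
          intro hd
          exact hi ((dvd_pow_self (p : ℤ) (by omega)).trans
            ((mul_dvd_mul_iff_left (pow_ne_zero _ (by exact_mod_cast hp.1.ne_zero))).mp hd))
        obtain ⟨b, hb⟩ := pow_mul_mem_pred u hu (hppos _) (-n) hne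
          (TruncatedWittVector.coeff ⟨k, hk⟩ y) (hy ⟨k, hk⟩)
        rw [← hsucc, ← hb, hu, ← map_mul, ← map_pow] at h1
        rw [al_injective h1, map_pow, map_mul, PowerSeries.constantCoeff_X, mul_zero,
          zero_pow (hppos _).ne']
      · rw [if_neg hks]
        set a := (hz ⟨k, hk⟩ (by simpa using hks)).choose with ha
        have hae := (hz ⟨k, hk⟩ (by simpa using hks)).choose_spec
        rw [← ha] at hae
        have hinv : ((u ^ i : Bˣ) : B) ^ p ^ (k - s) * (((u ^ (-i) : Bˣ) : B) ^ p ^ (k - s)) = 1 := by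
          rw [← mul_pow, ← Units.val_mul, ← zpow_add, add_neg_cancel, zpow_zero, Units.val_one,
            one_pow]
        have h3 : TruncatedWittVector.coeff ⟨k, hk⟩ y =
            algebraMap (PowerSeries S) B a * ((u ^ i : Bˣ) : B) ^ p ^ (k - s) := by
          rw [hae, mul_assoc, mul_comm ((((u ^ (-i) : Bˣ) : B)) ^ _), hinv, mul_one]
        rw [h3, mul_pow (algebraMap (PowerSeries S) B a) _ (p ^ (m - 1 - k)), mul_assoc,
          hexp ⟨k, hk⟩ (by simpa using hks), mul_one, ← map_pow,
          ← map_pow] at h1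
        rw [al_injective h1, map_pow, map_pow]
        congr 2
        simp only [c, WittVector.coeff_mk, ha]
        have hks' : k - s + s = k := by omega
        rw [dif_pos (by omega)]
        congr 4 <;> simp [hks']
    rw [← hY, ← hX, ← map_sub]
    intro j
    rw [WittVector.coeff_truncate]
    obtain ⟨b, hb⟩ := (mem_fil_of_twist hR m _ (Y - X)
      ⟨ZY - ZX, by rw [map_sub, hZY, hZX, twist_sub]⟩) j
    rw [WittVector.coeff_truncate] at hb
    have h1 : algebraMap (PowerSeries S) B ((ZY - ZX).coeff j) = algebraMap (PowerSeries S) B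
        (b ^ p ^ (j : ℕ)) := by
      rw [map_pow, hb, ← coeff_twist_of_lt m _ _ j.2, twist_sub, ← hZY, ← hZX, ← map_sub,
        WittVector.map_coeff]
    have h0 : PowerSeries.constantCoeff ((ZY - ZX).coeff j) = 0 := by
      rw [← WittVector.map_coeff (PowerSeries.constantCoeff (R := S)), map_sub]
      have : WittVector.truncate m (WittVector.map (PowerSeries.constantCoeff (R := S)) ZY) =
          WittVector.truncate m (WittVector.map (PowerSeries.constantCoeff (R := S)) ZX) := by
        ext k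
        rw [WittVector.coeff_truncate, WittVector.coeff_truncate, WittVector.map_coeff,
          WittVector.map_coeff, key k k.2]
      have h' := sub_eq_zero.mpr this
      rw [← map_sub, ← RingHom.mem_ker, WittVector.mem_ker_truncate] at h'
      exact h' j j.2
    rw [al_injective h1, map_pow] at h0
    obtain ⟨b', rfl⟩ := PowerSeries.X_dvd_iff.mpr (eq_zero_of_pow_eq_zero h0)
    refine ⟨b', ?_⟩
    apply u.isUnit.mul_left_injective
    show algebraMap (PowerSeries S) B b' * (u : B) =
      (Y - X).coeff j ^ p ^ (m - 1 - (j : ℕ)) * ((u ^ (-n - 1) : Bˣ) : B) * (u : B)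
    rw [hsucc, ← hb, map_mul, hu, mul_comm]

end Groth.Agent.WittFilLib
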